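import Mathlib
import Cfsg.Agent.Lib.Helper57.OPar.Defs

/-!
# Project OPAR (S5989), sub-project [PDER+], package [ALT]

A nondegenerate alternating form lives on a space of even dimension (characteristic not 2).
-/

set_option autoImplicit false

namespace Cfsg.Agent.Lib.Helper25.OPar

open Cfsg.Agent.Lib.Helper57.OPar

universe u

theorem pkgAlt : PkgAlt.{u} := by
  intro F _ V _ _ _ h2 β halt hnd
  classical
  let b := Module.finBasis F V
  let A : Matrix (Fin (Module.finrank F V)) (Fin (Module.finrank F V)) F :=
    Matrix.of fun i j => β (b i) (b j)
  have hskew : ∀ u v, β u v = - β v u := by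
    intro u v
    have h := halt (u + v)
    simp only [map_add, LinearMap.add_apply, halt, zero_add, add_zero] at h
    exact eq_neg_of_add_eq_zero_right h
  have hAt : A.transpose = -A := by
    ext i j
    simp only [A, Matrix.transpose_apply, Matrix.of_apply, Matrix.neg_apply]
    exact hskew _ _
  have hdet : A.det ≠ 0 := by
    intro h0
    obtain ⟨c, hc0, hc⟩ := Matrix.exists_vecMul_eq_zero_iff.mpr h0
    apply hc0
    have hu : (∑ i, c i • b i) = 0 := by
      apply hnd
      intro v
      have hz : β (∑ i, c i • b i) = 0 := by
        apply b.ext
        intro j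
        have hj := congrFun hc j
        simp only [Matrix.vecMul, dotProduct, A, Matrix.of_apply, Pi.zero_apply] at hj
        simp only [map_sum, map_smul, LinearMap.sum_apply, LinearMap.smul_apply, smul_eq_mul,
          LinearMap.zero_apply]
        exact hj
      rw [hz]
      rfl
    have hli := b.linearIndependent
    rw [Fintype.linearIndependent_iff] at hli
    funext i
    exact hli c hu i
  by_contra hodd
  rw [Nat.not_even_iff_odd] at hodd
  have h1 : A.det = -A.det := by
    conv_lhs => rw [← Matrix.det_transpose, hAt, Matrix.det_neg, Fintype.card_fin,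
      Odd.neg_one_pow hodd]
    ring
  have h3 : (2 : F) * A.det = 0 := by linear_combination h1
  rcases mul_eq_zero.mp h3 with h | h
  · exact h2 h
  · exact hdet h

end Cfsg.Agent.Lib.Helper25.OPar
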