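import Mathlib
import Cfsg.Agent.Lib.Helper70.OPar.Defs
import Cfsg.Agent.Lib.Helper23.OHyp.Asm
import Cfsg.Agent.Lib.Helper25.OPar.Emb

/-!
# Project OPAR (S5989), package [POS]

`r` odd, `r ≠ p`: the numerical conditions force an invariant member for every element of `Ω`
whose `r`-th power is scalar.
-/

set_option autoImplicit false

namespace Cfsg.Agent.Lib.Helper25.OPar

open Cfsg.Agent.Lib.Helper23.OHyp Cfsg.Agent.Lib.Helper70.OPar
open scoped Matrix

universe u

theorem pkgPos_of (hS : PkgScal.{u}) (hSp : PkgSplit.{u}) (hD : PkgDiv.{u}) (hSub : PkgSub.{u})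
    (_hSum : PkgSum.{u}) (hG : PkgGeomIso.{u}) : PkgPos.{u} := by
  intro F _ _ ι _ _ Q hQ h2 r hr hr2 hrq W₀ m hmodd hmn hW₀dim hW₀nd hcond
  intro x hxΩ hz hns
  obtain ⟨z, hz⟩ := hz
  have hxiso := mem_iso_of_mem_omega hxΩ
  have hxisom := isom_of_mem hxiso
  haveI : Nonempty ι := by
    rw [← Fintype.card_pos_iff]
    omega
  have hxr : (x : Matrix ι ι F) ^ r = z • 1 := by
    rw [← hz, Units.val_pow_eq_pow_val]
  have hpowiso : ∀ (k : ℕ) (v : ι → F), Q (((x : Matrix ι ι F) ^ k) *ᵥ v) = Q v := by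
    intro k
    induction k with
    | zero => intro v; simp
    | succ k ih =>
      intro v
      rw [pow_succ' (x : Matrix ι ι F) k, ← Matrix.mulVec_mulVec, hxisom, ih]
  have hziso : ∀ v, Q ((z • (1 : Matrix ι ι F)) *ᵥ v) = Q v := by
    intro v
    rw [← hxr]
    exact hpowiso r v
  have hzz : z * z = 1 := hS F ι Q hQ z hziso
  have hrodd : Odd r := hr.odd_of_ne_two hr2
  have hyr : (z • (x : Matrix ι ι F)) ^ r = 1 := by
    rw [smul_pow, hxr, smul_smul]
    obtain ⟨t, ht⟩ := hrodd
    have h1 : z ^ r * z = 1 := by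
      rw [← pow_succ, ht]
      have h3 : 2 * t + 1 + 1 = 2 * (t + 1) := by ring
      rw [h3, pow_mul, pow_two, hzz, one_pow]
    rw [h1, one_smul]
  have hyiso : ∀ v, Q ((z • (x : Matrix ι ι F)) *ᵥ v) = Q v := by
    intro v
    rw [Matrix.smul_mulVec, hQ.smul, hxisom, pow_two, hzz, one_mul]
  have hrF : (r : F) ≠ 0 := by
    intro h
    obtain ⟨p, hpc⟩ := CharP.exists F
    haveI := hpc
    obtain ⟨k, hp, hk⟩ := FiniteField.card F p
    rw [CharP.cast_eq_zero_iff F p] at h
    have hpr : p = r := (Nat.prime_dvd_prime_iff_eq hp hr).mp h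
    apply hrq
    rw [hk, hpr]
    exact dvd_pow_self r k.ne_zero
  have hStd : Std Q r (z • (x : Matrix ι ι F)) := ⟨hQ, h2, hr, hr2, hrq, hrF, hyr, hyiso⟩
  have hxy : (x : Matrix ι ι F) = z • (z • (x : Matrix ι ι F)) := by
    rw [smul_smul, hzz, one_smul]
  have hy1 : z • (x : Matrix ι ι F) ≠ 1 := by
    intro h
    apply hns z
    rw [hxy, h]
  have hipos : 0 < ordI (Fintype.card F) r := ordI_pos hr hrq
  have hcpos : 0 < cc (Fintype.card F) r := cc_pos hipos
  obtain ⟨c', hc'⟩ := cc_even (Fintype.card F) r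
  obtain ⟨hNdC, hNdN, hPerp, hCompl, hInvN, -⟩ := hSp F ι Q r _ hStd
  obtain ⟨⟨J, hJ⟩, hplusN⟩ := hD F ι Q r _ hStd (movSp (z • (x : Matrix ι ι F))) le_rfl hInvN hNdN
  have hdim : Module.finrank F (fixSp (z • (x : Matrix ι ι F))) +
      Module.finrank F (movSp (z • (x : Matrix ι ι F))) = Fintype.card ι := by
    rw [Submodule.finrank_add_eq_of_isCompl hCompl, Module.finrank_fintype_fun_eq_card]
  have hNne : movSp (z • (x : Matrix ι ι F)) ≠ ⊥ := by
    intro h
    apply hy1
    have h0 : Matrix.toLin' (z • (x : Matrix ι ι F)) - 1 = 0 := LinearMap.range_eq_bot.mp h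
    have h1 : Matrix.toLin' (z • (x : Matrix ι ι F)) = Matrix.toLin' (1 : Matrix ι ι F) := by
      rw [Matrix.toLin'_one]
      exact sub_eq_zero.mp h0
    exact Matrix.toLin'.injective h1
  have hJ1 : 1 ≤ J := by
    by_contra hcon
    have hJ0 : J = 0 := by omega
    rw [hJ0, mul_zero] at hJ
    exact hNne (Submodule.finrank_eq_zero.mp hJ)
  have hmodm := Nat.div_add_mod m (cc (Fintype.card F) r)
  have hmodn := Nat.div_add_mod (Fintype.card ι) (cc (Fintype.card F) r)
  have hmlt : m % cc (Fintype.card F) r < cc (Fintype.card F) r := Nat.mod_lt _ hcpos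
  have hCk : Module.finrank F (fixSp (z • (x : Matrix ι ι F))) % cc (Fintype.card F) r =
      Fintype.card ι % cc (Fintype.card F) r := by
    have h1 : Fintype.card ι = Module.finrank F (fixSp (z • (x : Matrix ι ι F))) +
        cc (Fintype.card F) r * J := by omega
    rw [h1, Nat.add_mul_mod_self_left]
  have hCge : m % cc (Fintype.card F) r + 1 ≤
      Module.finrank F (fixSp (z • (x : Matrix ι ι F))) := by
    rcases hcond with h | ⟨hk0, hty⟩
    · have h1 := Nat.mod_le (Module.finrank F (fixSp (z • (x : Matrix ι ι F))))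
        (cc (Fintype.card F) r)
      omega
    · have hCne : fixSp (z • (x : Matrix ι ι F)) ≠ ⊥ := by
        intro h
        have hN : movSp (z • (x : Matrix ι ι F)) = ⊤ := by
          have h1 := hCompl.sup_eq_top
          rw [h, bot_sup_eq] at h1
          exact h1
        apply hty
        rw [hN] at hplusN
        have hft : Module.finrank F (⊤ : Submodule F (ι → F)) = Fintype.card ι := by
          rw [finrank_top, Module.finrank_fintype_fun_eq_card]
        rw [hft] at hplusN
        exact hplusN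
      have hCpos : 0 < Module.finrank F (fixSp (z • (x : Matrix ι ι F))) := by
        rw [Nat.pos_iff_ne_zero]
        intro h
        exact hCne (Submodule.finrank_eq_zero.mp h)
      have h1 : Module.finrank F (fixSp (z • (x : Matrix ι ι F))) % cc (Fintype.card F) r = 0 := by
        rw [hCk, hk0]
      have h3 : cc (Fintype.card F) r ≤ Module.finrank F (fixSp (z • (x : Matrix ι ι F))) :=
        Nat.le_of_dvd hCpos (Nat.dvd_of_mod_eq_zero h1)
      omega
  have hjle : cc (Fintype.card F) r * min J (m / cc (Fintype.card F) r) ≤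
      Module.finrank F (movSp (z • (x : Matrix ι ι F))) := by
    rw [hJ]
    exact Nat.mul_le_mul_left _ (min_le_left _ _)
  obtain ⟨WN, hWNle, hWNinv, hWNnd, hWNdim⟩ :=
    hSub F ι Q r _ hStd (movSp (z • (x : Matrix ι ι F))) le_rfl hInvN hNdN _ hjle
  have he_le : cc (Fintype.card F) r * min J (m / cc (Fintype.card F) r) ≤ m :=
    (Nat.mul_le_mul_left _ (min_le_right _ _)).trans (Nat.mul_div_le m _)
  have hWNeven : Even (cc (Fintype.card F) r * min J (m / cc (Fintype.card F) r)) := by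
    rw [hc', mul_assoc]
    exact even_two_mul _
  have htodd : Odd (m - cc (Fintype.card F) r * min J (m / cc (Fintype.card F) r)) :=
    Nat.Odd.sub_even he_le hmodd hWNeven
  have ht1 : 1 ≤ m - cc (Fintype.card F) r * min J (m / cc (Fintype.card F) r) := by
    obtain ⟨s, hs⟩ := htodd
    omega
  have ht2 : m - cc (Fintype.card F) r * min J (m / cc (Fintype.card F) r) + 1 ≤
      Module.finrank F (fixSp (z • (x : Matrix ι ι F))) := by
    rcases le_total J (m / cc (Fintype.card F) r) with hjm | hjm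
    · rw [min_eq_left hjm]
      rw [min_eq_left hjm] at he_le
      omega
    · rw [min_eq_right hjm]
      omega
  have hperpC : Perp Q (fixSp (z • (x : Matrix ι ι F))) WN :=
    fun u hu v hv => hPerp u hu v (hWNle hv)
  obtain ⟨W₁, hW₁le, hW₁nd, hW₁dim, hiso⟩ :=
    hG F ι Q hQ h2 (fixSp (z • (x : Matrix ι ι F))) WN W₀ hNdC hWNnd hperpC hW₀nd _ ht1 ht2
      (by rw [hW₀dim, hWNdim]; omega)
  have hperp' : Perp Q W₁ WN := fun u hu v hv => hperpC u (hW₁le hu) v hv
  have hinvy : Inv (z • (x : Matrix ι ι F)) (W₁ ⊔ WN) := inv_sup hW₁le hWNinv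
  refine ⟨W₁ ⊔ WN, ⟨?_, nd_sup Q hQ hW₁nd hWNnd hperp', hiso⟩, ?_⟩
  · obtain ⟨e, -⟩ := hiso
    rw [e.finrank_eq, hW₀dim]
  · rintro _ ⟨w, hw, rfl⟩
    have h1 : Matrix.toLin' (z • (x : Matrix ι ι F)) w ∈ W₁ ⊔ WN := hinvy ⟨w, hw, rfl⟩
    have h3 : Matrix.toLin' (x : Matrix ι ι F) w =
        z • Matrix.toLin' (z • (x : Matrix ι ι F)) w := by
      rw [Matrix.toLin'_apply, Matrix.toLin'_apply]
      conv_lhs => rw [hxy]
      rw [Matrix.smul_mulVec]
    rw [h3]
    exact Submodule.smul_mem _ _ h1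

end Cfsg.Agent.Lib.Helper25.OPar
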