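import Mathlib
import Cfsg.Agent.Lib.Helper57.OPar.Defs
import Cfsg.Agent.Lib.Helper12.OHyp.EBlkOdd

/-!
# Project OPAR (S5989), sub-project [PDER+], package [QNDP]

The plus-type form is a nondegenerate quadratic form (from helper12's landed lemma).
-/

set_option autoImplicit false

namespace Cfsg.Agent.Lib.Helper25.OPar

open Cfsg.Agent.Lib.Helper57.OPar

universe u

theorem pkgQndPlus : PkgQndPlus.{u} := by
  intro F _ _ d
  exact Cfsg.Agent.Lib.Helper12.OHyp.nondeg_quadFormPlus d

end Cfsg.Agent.Lib.Helper25.OPar
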